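import Mathlib

/-!
Subgroups of squares `±1` in a linear group: if all elementary abelian subgroups are small, the
group spans a large space of matrices. Bounds the 2-rank of projective linear groups.
-/

set_option autoImplicit false

namespace CfsgLib.TwoRank

variable {P : Type*} [Group P] {z : P}

theorem mem_pair_mul (hz2 : z * z = 1) {a b : P} (ha : a = 1 ∨ a = z) (hb : b = 1 ∨ b = z) :
    a * b = 1 ∨ a * b = z := by
  rcases ha with rfl | rfl <;> rcases hb with rfl | rfl <;> simp [hz2]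

theorem mem_pair_inv (hz2 : z * z = 1) {a : P} (ha : a = 1 ∨ a = z) : a⁻¹ = 1 ∨ a⁻¹ = z := by
  rcases ha with rfl | rfl
  · simp
  · exact Or.inr (inv_eq_of_mul_eq_one_right hz2)

theorem comm_or (hz2 : z * z = 1) (hzc : ∀ x, z * x = x * z)
    (hsq : ∀ x : P, x * x = 1 ∨ x * x = z) (x y : P) : x * y = y * x ∨ x * y = z * (y * x) := by
  have hc : y⁻¹ * (x * x)⁻¹ = (x * x)⁻¹ * y⁻¹ := by
    rcases hsq x with h | h <;> rw [h]
    · simp
    · rw [← mul_inv_rev, ← mul_inv_rev, hzc]
  have e : x * y = (x * y * (x * y) * ((x * x)⁻¹ * (y * y)⁻¹)) * (y * x) := by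
    rw [mul_inv_rev y y, ← mul_assoc (x * x)⁻¹ y⁻¹, ← hc]
    group
  rcases mem_pair_mul hz2 (hsq (x * y))
    (mem_pair_mul hz2 (mem_pair_inv hz2 (hsq x)) (mem_pair_inv hz2 (hsq y))) with h | h
  · left; rw [e, h, one_mul]
  · right; rw [e, h]

variable (F : Type*) [Field F]

/-- The commutator sign. -/
noncomputable def sgn (x y : P) : Fˣ := by classical exact if x * y = y * x then 1 else -1

variable {F}

theorem sgn_swap (x y : P) : sgn F x y = sgn F y x := by
  classical
  simp only [sgn]; congr 1; exact propext eq_comm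

theorem sgn_mul_right (hz1 : z ≠ 1) (hz2 : z * z = 1) (hzc : ∀ x, z * x = x * z)
    (hsq : ∀ x : P, x * x = 1 ∨ x * x = z) (x a b : P) :
    sgn F x (a * b) = sgn F x a * sgn F x b := by
  classical
  have hne : ∀ {u : P}, x * u = z * (u * x) → ¬ x * u = u * x := fun h hh => hz1 (by
    rw [h] at hh; exact mul_eq_right.mp hh)
  rcases comm_or hz2 hzc hsq x a with ha | ha <;> rcases comm_or hz2 hzc hsq x b with hb | hb
  · have : x * (a * b) = a * b * x := by rw [← mul_assoc, ha, mul_assoc, hb, mul_assoc]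
    simp [sgn, ha, hb, this]
  · have : x * (a * b) = z * (a * b * x) := by
      rw [← mul_assoc, ha, mul_assoc, hb, ← mul_assoc, ← hzc, mul_assoc, mul_assoc]
    simp [sgn, ha, hne hb, hne this]
  · have : x * (a * b) = z * (a * b * x) := by
      rw [← mul_assoc, ha, mul_assoc, mul_assoc, hb, mul_assoc]
    simp [sgn, hne ha, hb, hne this]
  · have : x * (a * b) = a * b * x := by
      rw [← mul_assoc, ha, mul_assoc, mul_assoc, hb, ← mul_assoc a z, ← hzc a, mul_assoc z a,
        ← mul_assoc z z, hz2, one_mul, mul_assoc]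
    simp [sgn, hne ha, hne hb, this]

theorem sgn_eq_one (h2 : (2 : F) ≠ 0) {x y : P} : sgn F x y = 1 ↔ x * y = y * x := by
  classical
  simp only [sgn]
  refine ⟨fun h => ?_, fun h => if_pos h⟩
  by_contra hne
  rw [if_neg hne] at h
  have := congrArg Units.val h
  rw [Units.val_neg, Units.val_one] at this
  exact h2 (by linear_combination -this)

variable {ι : Type*} [Fintype ι] [DecidableEq ι]

/-- Elements of distinct commutation characters are linearly independent. -/
theorem card_quotient_center_le [Finite P] (h2 : (2 : F) ≠ 0) (ρ : P →* Matrix ι ι F)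
    (hinj : Function.Injective ρ) (hz : ρ z = -1) (hsq : ∀ x : P, x * x = 1 ∨ x * x = z)
    (hz1 : z ≠ 1) :
    Nat.card (P ⧸ Subgroup.center P) ≤ Fintype.card ι * Fintype.card ι := by
  classical
  have hz2 : z * z = 1 := hinj (by rw [map_mul, map_one, hz, neg_mul_neg, one_mul])
  have hzc : ∀ x, z * x = x * z := fun x => hinj (by simp [hz])
  have : Nonempty ι := by
    by_contra h
    haveI := not_nonempty_iff.mp h
    exact hz1 (hinj (Subsingleton.elim _ _))
  have hρ0 : ∀ x, ρ x ≠ 0 := fun x h => by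
    have h1 : ρ x * ρ x⁻¹ = 1 := by rw [← map_mul, mul_inv_cancel, map_one]
    rw [h, zero_mul] at h1
    exact zero_ne_one h1
  have hconj : ∀ x y, ρ (y * x) = ((sgn F x y : Fˣ) : F) • ρ (x * y) := by
    intro x y
    by_cases h : x * y = y * x
    · rw [sgn, if_pos h, Units.val_one, one_smul, h]
    · rw [sgn, if_neg h, Units.val_neg, Units.val_one,
        (comm_or hz2 hzc hsq x y).resolve_left h, map_mul ρ z, hz]
      simp
  let χ : P → (P →* F) := fun x => (Units.coeHom F).comp (MonoidHom.mk' (sgn F x)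
    (sgn_mul_right hz1 hz2 hzc hsq x))
  letI := Fintype.ofFinite (P ⧸ Subgroup.center P)
  let f : P ⧸ Subgroup.center P → Matrix ι ι F := fun q => ρ q.out
  have hχ : Function.Injective fun q : P ⧸ Subgroup.center P => χ q.out := by
    intro q q' h
    rw [← QuotientGroup.out_eq' q, ← QuotientGroup.out_eq' q', QuotientGroup.eq,
      Subgroup.mem_center_iff]
    intro y
    rw [eq_comm, ← sgn_eq_one (F := F) h2, sgn_swap]
    have e : sgn F q.out y = sgn F q'.out y := Units.ext (DFunLike.congr_fun h y)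
    have inv_eq : sgn F y q.out⁻¹ = (sgn F y q.out)⁻¹ :=
      map_inv (MonoidHom.mk' (sgn F y) (sgn_mul_right hz1 hz2 hzc hsq y)) q.out
    rw [sgn_mul_right hz1 hz2 hzc hsq, inv_eq, sgn_swap y, sgn_swap y, e, inv_mul_cancel]
  have hli : LinearIndependent F f := by
    rw [Fintype.linearIndependent_iff]
    intro c hc q
    obtain ⟨i, j, hij⟩ : ∃ i j, f q i j ≠ 0 := by
      by_contra h
      push Not at h
      exact hρ0 q.out (Matrix.ext h)
    have hrel : ∀ y : P, ∑ x, (c x * χ x.out y) • f x = 0 := by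
      intro y
      have e : ∀ x : P ⧸ Subgroup.center P,
          (c x * χ x.out y) • f x = ρ y * (c x • f x) * ρ y⁻¹ := by
        intro x
        rw [mul_smul_comm, smul_mul_assoc, ← map_mul, hconj, smul_mul_assoc, ← map_mul,
          mul_assoc, mul_inv_cancel, mul_one, smul_smul]
        rfl
      rw [Finset.sum_congr rfl fun x _ => e x, ← Finset.sum_mul, ← Finset.mul_sum, hc, mul_zero,
        zero_mul]
    have hind := (linearIndependent_monoidHom P F).comp _ hχ
    rw [Fintype.linearIndependent_iff] at hind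
    have hz0 : (fun x => c x * f x i j) q = 0 := hind (fun x => c x * f x i j) (by
      funext y
      have := congrFun (congrFun (hrel y) i) j
      simp only [Matrix.sum_apply, Matrix.smul_apply, Matrix.zero_apply, smul_eq_mul] at this
      simp only [Finset.sum_apply, Pi.smul_apply, smul_eq_mul, Pi.zero_apply, Function.comp_apply]
      rw [← this]
      exact Finset.sum_congr rfl fun x _ => by ring) q
    exact (mul_eq_zero.mp hz0).resolve_right hij
  have := hli.fintype_card_le_finrank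
  rwa [Module.finrank_matrix, Module.finrank_self, mul_one, ← Nat.card_eq_fintype_card] at this

/-- A group of squares `±1` all of whose elementary abelian subgroups have order at most `2 ^ m`
and which has order `2 ^ (2m+1)` has trivial radical. -/
theorem eq_one_or_of_central [Finite P] (F : Type*) [Field F] (h2 : (2 : F) ≠ 0) (m : ℕ)
    (hz1 : z ≠ 1) (hz2 : z * z = 1) (hzc : ∀ x, z * x = x * z)
    (hsq : ∀ x : P, x * x = 1 ∨ x * x = z)
    (hS : ∀ S : Subgroup P, (∀ a ∈ S, ∀ b ∈ S, a * b = b * a) → (∀ a ∈ S, a * a = 1) →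
      Nat.card S ≤ 2 ^ m)
    (hcard : Nat.card P = 2 ^ (2 * m + 1)) :
    ∀ r : P, (∀ y, r * y = y * r) → r = 1 ∨ r = z := by
  classical
  let T := {S : Subgroup P // z ∈ S ∧ (∀ a ∈ S, ∀ b ∈ S, a * b = b * a) ∧ ∀ a ∈ S, a * a = 1}
  have hzpow : ∀ a ∈ Subgroup.zpowers z, a = 1 ∨ a = z := by
    intro a ha
    rw [Subgroup.zpowers_eq_closure] at ha
    induction ha using Subgroup.closure_induction'' with
    | mem x hx => exact Or.inr hx
    | inv_mem x hx => exact mem_pair_inv hz2 (Or.inr hx)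
    | one => exact Or.inl rfl
    | mul x y _ _ hx hy => exact mem_pair_mul hz2 hx hy
  have : Nonempty T := ⟨⟨Subgroup.zpowers z, Subgroup.mem_zpowers z,
    fun a ha b hb => by
      rcases hzpow a ha with rfl | rfl <;> rcases hzpow b hb with rfl | rfl <;> simp,
    fun a ha => by rcases hzpow a ha with rfl | rfl <;> simp [hz2]⟩⟩
  obtain ⟨⟨S, hzS, hcomm, hexp⟩, hmax⟩ := Finite.exists_max fun S : T => Nat.card S.1
  letI : CommGroup S :=
    { (inferInstance : Group S) with mul_comm := fun a b => Subtype.ext (hcomm _ a.2 _ b.2) }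
  have hexp2 : Monoid.exponent S = 2 := by
    refine (Nat.dvd_prime Nat.prime_two).mp (Monoid.exponent_dvd_of_forall_pow_eq_one fun a => ?_)
      |>.resolve_left fun h => hz1 ?_
    · exact Subtype.ext (by rw [pow_two]; exact hexp _ a.2)
    · have := Monoid.pow_exponent_eq_one (⟨z, hzS⟩ : S)
      rw [h, pow_one] at this
      exact congrArg Subtype.val this
  haveI : HasEnoughRootsOfUnity F (Monoid.exponent S) := by
    rw [hexp2]
    refine ⟨⟨-1, ?_⟩, inferInstance⟩
    have hne : (-1 : F) ≠ 1 := fun h => h2 (by linear_combination -h)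
    exact IsPrimitiveRoot.mk_of_lt (-1) two_pos (by norm_num) fun l h0 hl => by
      interval_cases l; simpa using hne
  have hsd : ∀ x a b, sgn F x (a * b) = sgn F x a * sgn F x b := sgn_mul_right hz1 hz2 hzc hsq
  let φ : P →* (S →* Fˣ) := MonoidHom.mk'
    (fun x => MonoidHom.mk' (fun a => sgn F x a) fun a b => hsd x a b)
    (fun x y => MonoidHom.ext fun a => by
      simp only [MonoidHom.mk'_apply, MonoidHom.mul_apply]
      rw [sgn_swap, hsd, sgn_swap, sgn_swap (a : P)])
  obtain ⟨χ₀, hχ₀⟩ : ∃ χ : S →* Fˣ, χ ⟨z, hzS⟩ ≠ 1 :=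
    CommGroup.exists_apply_ne_one_of_hasEnoughRootsOfUnity S F
      (fun h => hz1 (congrArg Subtype.val h))
  let K : Subgroup (S →* Fˣ) :=
    { carrier := {χ | χ ⟨z, hzS⟩ = 1}
      one_mem' := rfl
      mul_mem' := fun {a b} ha hb => by
        show (a * b) _ = 1
        rw [MonoidHom.mul_apply, show a _ = 1 from ha, show b _ = 1 from hb, mul_one]
      inv_mem' := fun {a} ha => by
        show a⁻¹ _ = 1
        rw [MonoidHom.inv_apply, show a _ = 1 from ha, inv_one] }
  have hφK : φ.range ≤ K := by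
    rintro _ ⟨x, rfl⟩
    exact (sgn_eq_one h2).mpr (hzc x).symm
  obtain ⟨eS⟩ := CommGroup.monoidHom_mulEquiv_of_hasEnoughRootsOfUnity S F
  haveI : Finite (S →* Fˣ) := Finite.of_equiv S eS.symm.toEquiv
  have hKS : 2 * Nat.card K ≤ Nat.card S := by
    rw [← Nat.card_congr eS.toEquiv, ← K.card_mul_index, mul_comm]
    refine Nat.mul_le_mul le_rfl ?_
    have h1 : K.index ≠ 1 := fun h => hχ₀ (Subgroup.index_eq_one.mp h ▸ Subgroup.mem_top χ₀ : χ₀ ∈ K)
    have h0 : K.index ≠ 0 := Subgroup.index_ne_zero_of_finite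
    omega
  have hP : Nat.card φ.ker * Nat.card φ.range = 2 ^ (2 * m + 1) := by
    rw [← Subgroup.index_ker, Subgroup.card_mul_index, hcard]
  have hC : ∀ x, x ∈ φ.ker ↔ ∀ a ∈ S, x * a = a * x := fun x =>
    ⟨fun h a ha => (sgn_eq_one h2).mp (DFunLike.congr_fun (MonoidHom.mem_ker.mp h) (⟨a, ha⟩ : S)),
      fun h => MonoidHom.mem_ker.mpr (MonoidHom.ext fun a => (sgn_eq_one h2).mpr (h a a.2))⟩
  have hSC : S ≤ φ.ker := fun x hx => (hC x).mpr fun a ha => hcomm x hx a ha
  -- outside `S` the square is `z`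
  have hout : ∀ x ∈ φ.ker, x ∉ S → x * x = z := by
    intro x hx hxS
    refine (hsq x).resolve_left fun h1 => ?_
    let U : Subgroup P :=
      { carrier := {u | u ∈ S ∨ x⁻¹ * u ∈ S}
        one_mem' := Or.inl S.one_mem
        mul_mem' := fun {a b} ha hb => by
          rcases ha with ha | ha
          · rcases hb with hb | hb
            · exact Or.inl (S.mul_mem ha hb)
            · right
              have : x⁻¹ * (a * b) = a * (x⁻¹ * b) := by
                rw [← mul_assoc, ← mul_assoc]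
                congr 1
                rw [inv_mul_eq_iff_eq_mul, ← mul_assoc, (hC x).mp hx a ha, mul_inv_cancel_right]
              rw [this]
              exact S.mul_mem ha hb
          · obtain ⟨s, hs, rfl⟩ : ∃ s ∈ S, x * s = a := ⟨_, ha, mul_inv_cancel_left x a⟩
            rcases hb with hb | hb
            · right; rw [mul_assoc, inv_mul_cancel_left]; exact S.mul_mem hs hb
            · left
              obtain ⟨t, ht, rfl⟩ : ∃ t ∈ S, x * t = b := ⟨_, hb, mul_inv_cancel_left x b⟩
              rw [mul_assoc, ← mul_assoc s x, ← (hC x).mp hx s hs, mul_assoc, ← mul_assoc x x, h1,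
                one_mul]
              exact S.mul_mem hs ht
        inv_mem' := fun {a} ha => by
          rcases ha with ha | ha
          · exact Or.inl (S.inv_mem ha)
          · obtain ⟨s, hs, rfl⟩ : ∃ s ∈ S, x * s = a := ⟨_, ha, mul_inv_cancel_left x a⟩
            right
            rw [mul_inv_rev, inv_eq_of_mul_eq_one_right h1,
              ← (hC x).mp hx s⁻¹ (S.inv_mem hs), ← mul_assoc, h1, one_mul]
            exact S.inv_mem hs }
    have hU : ∀ a ∈ U, ∃ s ∈ S, a = s ∨ a = x * s := by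
      rintro a (ha | ha)
      · exact ⟨a, ha, Or.inl rfl⟩
      · exact ⟨_, ha, Or.inr (mul_inv_cancel_left x a).symm⟩
    have hUc : ∀ a ∈ U, ∀ b ∈ U, a * b = b * a := by
      intro a ha b hb
      obtain ⟨s, hs, hs'⟩ := hU a ha
      obtain ⟨t, ht, ht'⟩ := hU b hb
      have e1 := (hC x).mp hx s hs
      have e2 := (hC x).mp hx t ht
      have cst : Commute s t := hcomm s hs t ht
      have cxs : Commute x s := e1
      have cxt : Commute x t := e2
      rcases hs' with rfl | rfl <;> rcases ht' with rfl | rfl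
      · exact cst
      · exact (cxs.symm.mul_right cst).eq
      · exact (cxt.mul_left cst).eq
      · exact (((Commute.refl x).mul_right cxt).mul_left (cxs.symm.mul_right cst)).eq
    have hUe : ∀ a ∈ U, a * a = 1 := by
      intro a ha
      obtain ⟨s, hs, rfl | rfl⟩ := hU a ha
      · exact hexp _ hs
      · rw [mul_assoc, ← mul_assoc s x, ← (hC x).mp hx s hs, mul_assoc, hexp s hs, mul_one, h1]
    have hle : S ≤ U := fun u hu => Or.inl hu
    have hlt : Nat.card S < Nat.card U := by
      refine Set.ncard_lt_ncard ?_ (Set.toFinite _)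
      exact ⟨hle, fun h => hxS (h (Or.inr (by simp [S.one_mem]) : x ∈ U))⟩
    exact absurd (hmax ⟨U, hle hzS, hUc, hUe⟩) (not_le.mpr hlt)
  -- distinct cosets in the centralizer do not commute
  have hnc : ∀ x ∈ φ.ker, ∀ y ∈ φ.ker, x ∉ S → y ∉ S → x * y ∉ S → ¬ x * y = y * x := by
    intro x hx y hy hxS hyS hxy h
    have h1 := hout _ (φ.ker.mul_mem hx hy) hxy
    rw [mul_assoc, ← mul_assoc y x, ← h, mul_assoc, hout y hy hyS, ← mul_assoc, hout x hx hxS,
      hz2] at h1
    exact hz1 h1.symm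
  have hinvS : ∀ x ∈ φ.ker, ∀ y, x ∉ S → (x * y ∈ S ↔ x⁻¹ * y ∈ S) := by
    intro x hx y hxS
    have : x * y = z * (x⁻¹ * y) := by rw [← hout x hx hxS, mul_assoc, mul_inv_cancel_left]
    rw [this, S.mul_mem_cancel_left hzS]
  have hS' := hS S hcomm hexp
  have hrange : Nat.card φ.range ≤ Nat.card K :=
    Nat.card_le_card_of_injective _ (Subgroup.inclusion_injective hφK)
  -- the centralizer is covered by four cosets
  have hcover : ∃ x y : P, (φ.ker : Set P) ⊆
      (S : Set P) ∪ (x * ·) '' S ∪ ((y * ·) '' S ∪ (x * y * ·) '' S) := by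
    by_cases h : ∃ x ∈ φ.ker, ∃ y ∈ φ.ker, x ∉ S ∧ y ∉ S ∧ x * y ∉ S
    · obtain ⟨x, hx, y, hy, hxS, hyS, hxy⟩ := h
      refine ⟨x, y, fun w hw => ?_⟩
      by_contra hw'
      simp only [Set.mem_union, not_or] at hw'
      obtain ⟨⟨hwS, hwx⟩, hwy, hwxy⟩ := hw'
      have hxw : x * w ∉ S := fun h => hwx ⟨x⁻¹ * w, (hinvS x hx w hxS).mp h,
        mul_inv_cancel_left x w⟩
      have hyw : y * w ∉ S := fun h => hwy ⟨y⁻¹ * w, (hinvS y hy w hyS).mp h,
        mul_inv_cancel_left y w⟩
      have hxyw : x * (y * w) ∉ S := fun h => hwxy ⟨(x * y)⁻¹ * w,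
        (hinvS _ (φ.ker.mul_mem hx hy) w hxy).mp (by rwa [mul_assoc]), mul_inv_cancel_left _ w⟩
      have e1 := (comm_or hz2 hzc hsq x y).resolve_left (hnc x hx y hy hxS hyS hxy)
      have e2 := (comm_or hz2 hzc hsq x w).resolve_left (hnc x hx w hw hxS hwS hxw)
      refine hnc x hx _ (φ.ker.mul_mem hy hw) hxS hyw hxyw ?_
      rw [← mul_assoc, e1, mul_assoc z, mul_assoc y, e2, ← mul_assoc y z, ← hzc y, mul_assoc z y,
        ← mul_assoc z z, hz2, one_mul, mul_assoc]
    · push Not at h
      by_cases h' : ∃ x ∈ φ.ker, x ∉ S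
      · obtain ⟨x, hx, hxS⟩ := h'
        refine ⟨x, 1, fun w hw => ?_⟩
        by_cases hwS : w ∈ S
        · exact Or.inl (Or.inl hwS)
        · exact Or.inl (Or.inr ⟨x⁻¹ * w, (hinvS x hx w hxS).mp (h x hx w hw hxS hwS),
            mul_inv_cancel_left x w⟩)
      · push Not at h'
        exact ⟨1, 1, fun w hw => Or.inl (Or.inl (h' w hw))⟩
  have himg : ∀ x : P, ((x * ·) '' (S : Set P)).ncard = Nat.card S := fun x =>
    Set.ncard_image_of_injective _ (mul_right_injective x)
  have hC4 : Nat.card φ.ker ≤ 4 * Nat.card S := by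
    obtain ⟨x, y, hxy⟩ := hcover
    have := Set.ncard_le_ncard hxy (Set.toFinite _)
    have u1 := Set.ncard_union_le ((S : Set P) ∪ (x * ·) '' S) ((y * ·) '' S ∪ (x * y * ·) '' S)
    have u2 := Set.ncard_union_le (S : Set P) ((x * ·) '' S)
    have u3 := Set.ncard_union_le ((y * ·) '' (S : Set P)) ((x * y * ·) '' S)
    rw [himg] at u2 u3
    rw [himg] at u3
    change Nat.card φ.ker ≤ _ at this
    change _ ≤ Nat.card S + Nat.card S at u2
    omega
  intro r hr
  have hrC : r ∈ φ.ker := (hC r).mpr fun a _ => hr a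
  have hpow : 2 * (2 ^ m * 2 ^ m) = 2 ^ (2 * m + 1) := by ring
  have hrS : r ∈ S := by
    by_contra hrS
    have hsub : (φ.ker : Set P) ⊆ (S : Set P) ∪ (r * ·) '' S := fun w hw => by
      by_cases hwS : w ∈ S
      · exact Or.inl hwS
      · right
        refine ⟨r⁻¹ * w, (hinvS r hrC w hrS).mp ?_, mul_inv_cancel_left r w⟩
        by_contra hrw
        exact hnc r hrC w hw hrS hwS hrw (hr w)
    have h1 := Set.ncard_le_ncard hsub (Set.toFinite _)
    have u := Set.ncard_union_le (S : Set P) ((r * ·) '' S)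
    rw [himg] at u
    change Nat.card φ.ker ≤ _ at h1
    change _ ≤ Nat.card S + Nat.card S at u
    have hmul : Nat.card φ.ker * Nat.card φ.range ≤ 2 ^ m * 2 ^ m := by
      calc Nat.card φ.ker * Nat.card φ.range ≤ (2 * Nat.card S) * Nat.card K :=
            Nat.mul_le_mul (by omega) hrange
        _ = Nat.card S * (2 * Nat.card K) := by ring
        _ ≤ 2 ^ m * 2 ^ m := Nat.mul_le_mul hS' (hKS.trans hS')
    rw [hP, ← hpow] at hmul
    have : 0 < 2 ^ m * 2 ^ m := by positivity
    omega
  have hfull : φ.range = K := by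
    have hge : Nat.card K ≤ Nat.card φ.range := by
      refine Nat.le_of_mul_le_mul_left ?_ (Nat.card_pos : 0 < Nat.card φ.ker)
      calc Nat.card φ.ker * Nat.card K ≤ (4 * Nat.card S) * Nat.card K :=
            Nat.mul_le_mul hC4 le_rfl
        _ = 2 * (Nat.card S * (2 * Nat.card K)) := by ring
        _ ≤ 2 * (2 ^ m * 2 ^ m) := Nat.mul_le_mul le_rfl (Nat.mul_le_mul hS' (hKS.trans hS'))
        _ = Nat.card φ.ker * Nat.card φ.range := by rw [hP, hpow]
    exact Subgroup.eq_of_le_of_card_ge hφK hge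
  have hkey : ∀ χ : S →* Fˣ, χ ⟨z, hzS⟩ = 1 → χ ⟨r, hrS⟩ = 1 := by
    intro χ hχ
    obtain ⟨x, rfl⟩ : χ ∈ φ.range := hfull ▸ hχ
    exact (sgn_eq_one h2).mpr (hr x).symm
  have hpm : ∀ (χ : S →* Fˣ) (a : S), χ a = 1 ∨ χ a = -1 := by
    intro χ a
    have h : χ a * χ a = 1 := by
      rw [← map_mul, show a * a = 1 from Subtype.ext (hexp _ a.2), map_one]
    have h' := congrArg Units.val h
    rw [Units.val_mul, Units.val_one, mul_self_eq_one_iff] at h'
    rcases h' with h' | h'
    · exact Or.inl (Units.ext h')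
    · exact Or.inr (Units.ext h')
  have hχ₀' : χ₀ ⟨z, hzS⟩ = -1 := (hpm χ₀ _).resolve_left hχ₀
  have main : ∀ s : S, (∀ χ : S →* Fˣ, χ ⟨z, hzS⟩ = 1 → χ s = 1) → χ₀ s = 1 → s = 1 := by
    intro s hs hs0
    by_contra hne
    obtain ⟨χ, hχ⟩ := CommGroup.exists_apply_ne_one_of_hasEnoughRootsOfUnity S F hne
    rcases hpm χ ⟨z, hzS⟩ with h | h
    · exact hχ (hs χ h)
    · refine hχ ?_
      have := hs (χ * χ₀) (by rw [MonoidHom.mul_apply, h, hχ₀', neg_mul_neg, one_mul])
      rwa [MonoidHom.mul_apply, hs0, mul_one] at this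
  rcases hpm χ₀ ⟨r, hrS⟩ with h | h
  · exact Or.inl (congrArg Subtype.val (main _ hkey h))
  · right
    have := main (⟨r, hrS⟩ * ⟨z, hzS⟩) (fun χ hχ => by rw [map_mul, hkey χ hχ, hχ, one_mul])
      (by rw [map_mul, h, hχ₀', neg_mul_neg, one_mul])
    have h' := congrArg Subtype.val this
    rw [Subgroup.coe_mul, Subgroup.coe_one] at h'
    calc r = r * (z * z) := by rw [hz2, mul_one]
      _ = r * z * z := (mul_assoc _ _ _).symm
      _ = z := by rw [h', one_mul]

/-- A linear group of squares `±1`, order `2^(2m+1)` and small elementary abelian subgroups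
spans a space of dimension at least `4^m`. -/
theorem two_pow_le_sq [Finite P] (h2 : (2 : F) ≠ 0) (m : ℕ) (ρ : P →* Matrix ι ι F)
    (hinj : Function.Injective ρ) (hz : ρ z = -1) (hz1 : z ≠ 1)
    (hsq : ∀ x : P, x * x = 1 ∨ x * x = z)
    (hS : ∀ S : Subgroup P, (∀ a ∈ S, ∀ b ∈ S, a * b = b * a) → (∀ a ∈ S, a * a = 1) →
      Nat.card S ≤ 2 ^ m)
    (hcard : Nat.card P = 2 ^ (2 * m + 1)) :
    2 ^ (2 * m) ≤ Fintype.card ι * Fintype.card ι := by
  have hz2 : z * z = 1 := hinj (by rw [map_mul, map_one, hz, neg_mul_neg, one_mul])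
  have hzc : ∀ x, z * x = x * z := fun x => hinj (by simp [hz])
  have hrad := eq_one_or_of_central F h2 m hz1 hz2 hzc hsq hS hcard
  have hc2 : Nat.card (Subgroup.center P) ≤ 2 := by
    have hsub : (Subgroup.center P : Set P) ⊆ {1, z} := fun r hr =>
      hrad r fun y => (Subgroup.mem_center_iff.mp hr y).symm
    have h1 := Set.ncard_le_ncard hsub (Set.toFinite _)
    have h2' := Set.ncard_insert_le (1 : P) {z}
    rw [Set.ncard_singleton] at h2'
    change Nat.card (Subgroup.center P) ≤ _ at h1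
    omega
  refine le_trans ?_ (card_quotient_center_le h2 ρ hinj hz hsq hz1)
  have := (Subgroup.center P).card_eq_card_quotient_mul_card_subgroup
  rw [hcard] at this
  refine Nat.le_of_mul_le_mul_right (c := 2) ?_ two_pos
  calc 2 ^ (2 * m) * 2 = 2 ^ (2 * m + 1) := (pow_succ _ _).symm
    _ ≤ _ := this ▸ Nat.mul_le_mul le_rfl hc2

end CfsgLib.TwoRank
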